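import Cfsg.Agent.H697.Alm.Defs
import Cfsg.Agent.H697.ThreeDefs
import Cfsg.Agent.H697.ThreeB
import Cfsg.Agent.H697.ActMain

/-!
# S4790 T13: `ps_two`
-/

set_option autoImplicit false

open Cfsg Module
open Cfsg.Agent.H697.Alm

namespace Cfsg.Agent.H724.S4790

universe u

section orbits

variable {D E : Type u} [Group D] [AddCommGroup E] [DistribMulAction D E]

theorem mk_eq_iff {a b : E} :
    (Quotient.mk'' a : MulAction.orbitRel.Quotient D E) = Quotient.mk'' b ↔ ∃ d : D, d • b = a := by
  rw [Quotient.eq'']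
  exact Iff.rfl

theorem mk_ne_zero {a : E} (ha : a ≠ 0) :
    (Quotient.mk'' a : MulAction.orbitRel.Quotient D E) ≠ Quotient.mk'' 0 := by
  intro h
  obtain ⟨d, hd⟩ := mk_eq_iff.1 h
  rw [smul_zero] at hd
  exact ha hd.symm

end orbits

variable {D E : Type u} [Group D] [Finite D] [AddCommGroup E] [Finite E] [Nontrivial E] [DistribMulAction D E]
  [FaithfulSMul D E]

/-- at most two orbits (from `H697.LinMain.main` and `H697.Three.LinStmt`, see `H697.Three.act_two`) -/
theorem ps_two {p : ℕ} [Fact p.Prime] (h5 : 5 ≤ p) (hpE : ∀ e : E, p • e = 0) (hcop : ¬ p ∣ Nat.card D)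
    (hlin : H697.Three.LinStmt.{u} p)
    (hirr : IrrAct D E) (hne : Nat.card E ≠ p) (h : orb D E ≤ 2) :
    (orb D E = 1 ∧ p = 11 ∧ Nat.card (ConjClasses D) = 9) ∨
      p - 1 < orb D E * Nat.card (ConjClasses D) := by
  classical
  have hfinQ : Finite (MulAction.orbitRel.Quotient D E) := Quotient.finite _
  let hF : Fintype (MulAction.orbitRel.Quotient D E) := Fintype.ofFinite _
  have horb : orb D E = Fintype.card (MulAction.orbitRel.Quotient D E) - 1 := by
    rw [orb, Nat.card_eq_fintype_card]
  obtain ⟨v₁, hv₁⟩ := exists_ne (0 : E)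
  set mk : E → MulAction.orbitRel.Quotient D E := fun a => Quotient.mk'' a with hmk
  have hmk_eq : ∀ a b : E, mk a = mk b ↔ ∃ d : D, d • b = a := fun a b => mk_eq_iff
  have hmk0 : ∀ a : E, a ≠ 0 → mk a ≠ mk 0 := fun a ha => mk_ne_zero ha
  have hsurj : ∀ q : MulAction.orbitRel.Quotient D E, ∃ a, mk a = q := fun q => Quotient.exists_rep q
  by_cases hall : ∀ b : E, b ≠ 0 → mk b = mk v₁
  · have h2 : Fintype.card (MulAction.orbitRel.Quotient D E) = 2 := by
      have h3 : (Finset.univ : Finset (MulAction.orbitRel.Quotient D E)) = {mk 0, mk v₁} := by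
        ext q
        simp only [Finset.mem_univ, Finset.mem_insert, Finset.mem_singleton, true_iff]
        obtain ⟨a, rfl⟩ := hsurj q
        by_cases ha : a = 0
        · left; rw [ha]
        · right; exact hall a ha
      rw [← Finset.card_univ, h3, Finset.card_pair (hmk0 v₁ hv₁).symm]
    have h1 : orb D E = 1 := by rw [horb, h2]
    have htr : ∀ a b : E, a ≠ 0 → b ≠ 0 → ∃ d : D, d • a = b := by
      intro a b ha hb
      exact (hmk_eq b a).1 ((hall b hb).trans (hall a ha).symm)
    rcases H697.ActMain.act_main (p := p) hpE htr hcop with h4 | h4 | ⟨h4, -, -, ⟨e⟩⟩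
    · right
      rw [h1, one_mul]
      omega
    · exact absurd h4 hne
    · left
      refine ⟨h1, h4, ?_⟩
      rw [H697.ClassCount.card_conjClasses_congr e]
      exact H697.SL25.card_conjClasses
  · push Not at hall
    obtain ⟨v₂, hv₂, h12⟩ := hall
    have h3 : ({mk 0, mk v₁, mk v₂} : Finset (MulAction.orbitRel.Quotient D E)).card = 3 := by
      rw [Finset.card_eq_three]
      exact ⟨_, _, _, (hmk0 v₁ hv₁).symm, (hmk0 v₂ hv₂).symm, Ne.symm h12, rfl⟩
    have h4 := Finset.card_le_univ ({mk 0, mk v₁, mk v₂} : Finset (MulAction.orbitRel.Quotient D E))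
    rw [h3] at h4
    have h5' : Fintype.card (MulAction.orbitRel.Quotient D E) = 3 := by omega
    have h6 : ({mk 0, mk v₁, mk v₂} : Finset (MulAction.orbitRel.Quotient D E)) = Finset.univ := by
      apply Finset.eq_univ_of_card
      rw [h3, h5']
    have h7 : orb D E = 2 := by rw [horb, h5']
    right
    rw [h7]
    have h8 := H697.Three.act_two (p := p) hpE hlin hv₁ hv₂ (fun d hd => h12 ((hmk_eq v₂ v₁).2 ⟨d, hd⟩))
      (fun w hw => by
        have h9 : mk w ∈ ({mk 0, mk v₁, mk v₂} : Finset (MulAction.orbitRel.Quotient D E)) := by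
          rw [h6]; exact Finset.mem_univ _
        simp only [Finset.mem_insert, Finset.mem_singleton] at h9
        rcases h9 with h9 | h9 | h9
        · exact absurd h9 (hmk0 w hw)
        · exact Or.inl ((hmk_eq w v₁).1 h9)
        · exact Or.inr ((hmk_eq w v₂).1 h9)) hirr hcop hne
    omega

end Cfsg.Agent.H724.S4790
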